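import Mathlib
import Cfsg.Agent.Lib.Char.Solomon

/-!
# The permutation character `1_H^G` as a fixed point count
-/

set_option autoImplicit false
set_option linter.style.haveILetI false

namespace Cfsg.Agent.PermIndOne

universe u

variable {G : Type u} [Group G] [Fintype G]

/-- Conjugate subgroups induce the same permutation character. -/
theorem indFun_one_map_conj (H : Subgroup G) (k : G) :
    indFun (H.map (MulAut.conj k).toMonoidHom) (fun _ => (1 : ℂ)) =
      indFun H (fun _ => (1 : ℂ)) := by
  classical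
  funext g
  have key : ∀ (U : Subgroup G) (y : G),
      extendByZero U (fun _ => (1 : ℂ)) y = if y ∈ U then 1 else 0 := by
    intro U y
    by_cases hy : y ∈ U
    · rw [if_pos hy, Char.extendByZero_of_mem U _ hy]
    · rw [if_neg hy, Char.extendByZero_of_notMem U _ hy]
  unfold indFun
  rw [Subgroup.card_map_of_injective (MulAut.conj k).injective]
  congr 1
  refine Fintype.sum_equiv (Equiv.mulRight k) _ _ fun x => ?_
  rw [key, key]
  refine if_congr ?_ rfl rfl
  constructor
  · rintro ⟨u, hu, he⟩
    change k * u * k⁻¹ = x⁻¹ * g * x at he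
    have : (x * k)⁻¹ * g * (x * k) = u := by
      rw [show (x * k)⁻¹ * g * (x * k) = k⁻¹ * (x⁻¹ * g * x) * k by group, ← he]
      group
    show (x * k)⁻¹ * g * (x * k) ∈ H
    rw [this]; exact hu
  · intro hu
    refine ⟨_, hu, ?_⟩
    show k * ((x * k)⁻¹ * g * (x * k)) * k⁻¹ = x⁻¹ * g * x
    group

/-- `1_H^G` counts the fixed cosets. -/
theorem indFun_one_eq_fixedBy (H : Subgroup G) :
    indFun H (fun _ => (1 : ℂ)) =
      fun g : G => (Nat.card (MulAction.fixedBy (G ⧸ H) g) : ℂ) := by
  classical
  haveI : Fintype (G ⧸ H) := Fintype.ofFinite _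
  haveI : Fintype (Quotient (MulAction.orbitRel G (G ⧸ H))) := Fintype.ofFinite _
  rw [Char.fixedBy_eq_sum_indFun (G ⧸ H)]
  have huniq : ∀ ω : Quotient (MulAction.orbitRel G (G ⧸ H)),
      ω = Quotient.mk _ ((1 : G) : G ⧸ H) := by
    intro ω
    induction ω using Quotient.inductionOn with
    | h x =>
      apply Quotient.sound
      exact MulAction.exists_smul_eq G ((1 : G) : G ⧸ H) x
  rw [Fintype.sum_eq_single (Quotient.mk _ ((1 : G) : G ⧸ H)) fun ω hω => absurd (huniq ω) hω]
  set x := (Quotient.mk (MulAction.orbitRel G (G ⧸ H)) ((1 : G) : G ⧸ H)).out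
  obtain ⟨k, hk⟩ := MulAction.exists_smul_eq G ((1 : G) : G ⧸ H) x
  rw [← hk, MulAction.stabilizer_smul_eq_stabilizer_map_conj]
  rw [show MulAction.stabilizer G ((1 : G) : G ⧸ H) = H from MulAction.stabilizer_quotient H]
  exact (indFun_one_map_conj H k).symm

/-- A product of two such characters is the permutation character on pairs of cosets. -/
theorem indFun_one_mul (H K : Subgroup G) :
    indFun H (fun _ => (1 : ℂ)) * indFun K (fun _ => (1 : ℂ)) =
      fun g : G => (Nat.card (MulAction.fixedBy ((G ⧸ H) × (G ⧸ K)) g) : ℂ) := by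
  funext g
  rw [Pi.mul_apply, indFun_one_eq_fixedBy, indFun_one_eq_fixedBy,
    Char.card_fixedBy_prod' (G ⧸ H) (G ⧸ K) g, Nat.cast_mul]

end Cfsg.Agent.PermIndOne
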